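import Groth.Prelude.Def_W4c3irrattreebunCvg
import Mathlib.FieldTheory.AlgebraicClosure
import Mathlib.FieldTheory.IntermediateField.Algebraic
import Mathlib.Tactic

namespace Groth.Agent.Cvg52

open W4c3irrattreebun

universe u

theorem sInf_eq {S T : Set ℕ} (h1 : T ⊆ S) (h2 : ∀ e ∈ S, ∃ e' ∈ T, e' ≤ e) : sInf S = sInf T := by
  rcases S.eq_empty_or_nonempty with rfl | hS
  · rw [Set.subset_eq_empty h1 rfl]
  · obtain ⟨e', he', hle⟩ := h2 _ (Nat.sInf_mem hS)
    have hT : T.Nonempty := ⟨e', he'⟩
    exact le_antisymm (Nat.sInf_le (h1 (Nat.sInf_mem hT))) ((Nat.sInf_le he').trans hle)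

variable (k K : Type u) [Field k] [Field K] [Algebra k K]

theorem exists_restrict {e : ℕ} (D : CovDiag (algebraicClosure k K) K e) :
    ∃ D' : CovDiag k K e, (Algebra.IsSeparable K D.KC → Algebra.IsSeparable K D'.KC) := by
  letI a1 : Algebra k D.KC := ((algebraMap K D.KC).comp (algebraMap k K)).toAlgebra
  haveI t1 : IsScalarTower k K D.KC := IsScalarTower.of_algebraMap_eq fun _ => rfl
  letI a2 : Algebra k D.KB :=
    ((algebraMap (algebraicClosure k K) D.KB).comp (algebraMap k (algebraicClosure k K))).toAlgebra
  haveI t2 : IsScalarTower k D.KB D.KC := IsScalarTower.of_algebraMap_eq fun x => by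
    show algebraMap K D.KC (algebraMap k K x) =
      algebraMap D.KB D.KC (algebraMap (algebraicClosure k K) D.KB (algebraMap k (algebraicClosure k K) x))
    have e1 := @IsScalarTower.algebraMap_apply _ D.KB D.KC _ _ _ D.algkB D.algBC D.algkC D.towerB
      (algebraMap k (algebraicClosure k K) x)
    have e2 := @IsScalarTower.algebraMap_apply _ K D.KC _ _ _ _ D.algKC D.algkC D.towerK
      (algebraMap k (algebraicClosure k K) x)
    rw [← e1, e2]
    rfl
  exact ⟨{ KC := D.KC, KB := D.KB, t := D.t, transc := D.transc, finrank_eq := D.finrank_eq }, id⟩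

theorem exists_extend {e : ℕ} (D : CovDiag k K e) :
    ∃ e' ≤ e, ∃ D' : CovDiag (algebraicClosure k K) K e',
      (Algebra.IsSeparable K D.KC → Algebra.IsSeparable K D'.KC) := by
  let j : algebraicClosure k K →+* D.KC := (algebraMap K D.KC).comp (algebraMap (algebraicClosure k K) K)
  let B' : IntermediateField D.KB D.KC := IntermediateField.adjoin D.KB (Set.range j)
  have hjB : ∀ x, j x ∈ B' := fun x => IntermediateField.subset_adjoin _ _ ⟨x, rfl⟩
  haveI : Algebra.IsAlgebraic D.KB B' := by
    refine IntermediateField.isAlgebraic_adjoin (K := D.KB) ?_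
    rintro _ ⟨x, rfl⟩
    have hx : IsIntegral k (x : K) := (mem_algebraicClosure_iff.mp x.2).isIntegral
    have h2 : IsIntegral k (algebraMap K D.KC (x : K)) := hx.map (IsScalarTower.toAlgHom k K D.KC)
    exact h2.tower_top
  letI aB : Algebra (algebraicClosure k K) B' :=
    (RingHom.codRestrict j B'.toSubalgebra hjB).toAlgebra
  haveI tK : IsScalarTower (algebraicClosure k K) K D.KC := inferInstance
  haveI tB : IsScalarTower (algebraicClosure k K) B' D.KC := IsScalarTower.of_algebraMap_eq fun _ => rfl
  have htr : Transcendental B' D.t := D.transc.extendScalars B'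
  set F := IntermediateField.adjoin D.KB ({D.t} : Set D.KC) with hF
  set F' := IntermediateField.adjoin B' ({D.t} : Set D.KC) with hF'
  have hle : F ≤ F'.restrictScalars D.KB := by
    rw [hF, IntermediateField.adjoin_le_iff, Set.singleton_subset_iff]
    exact IntermediateField.mem_adjoin_simple_self B' D.t
  letI aF : Algebra F F' :=
    (RingHom.codRestrict (algebraMap F D.KC) F'.toSubalgebra fun x => hle x.2).toAlgebra
  haveI tF : IsScalarTower F F' D.KC := IsScalarTower.of_algebraMap_eq fun _ => rfl
  haveI : Module.Finite F' D.KC := Module.Finite.of_restrictScalars_finite F F' D.KC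
  haveI : Module.Finite F F' := Module.Finite.of_injective
    (IsScalarTower.toAlgHom F F' D.KC).toLinearMap (algebraMap F' D.KC).injective
  refine ⟨Module.finrank F' D.KC, ?_, { KC := D.KC, KB := B', t := D.t, transc := htr, finrank_eq := rfl }, id⟩
  have h := Module.finrank_mul_finrank F F' D.KC
  have hpos : 0 < Module.finrank F F' := Module.finrank_pos
  rw [D.finrank_eq] at h
  exact (Nat.le_mul_of_pos_left _ hpos).trans h.le

end Groth.Agent.Cvg52
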