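import Groth.Agent.Cvg52.Basic
import Mathlib.FieldTheory.SeparableClosure
import Mathlib.FieldTheory.IsAlgClosed.AlgebraicClosure
import Mathlib.LinearAlgebra.Dimension.Constructions

/-!
Separable covering gonality under separable algebraic extensions of the base field.
-/

set_option autoImplicit false
set_option linter.style.haveILetI false

namespace Groth.Agent.Cvg52

open W4c3irrattreebun

universe u

theorem finite_of_span {F E : Type u} [Field F] [Field E] [Algebra F E] {e : ℕ} (b : Fin e → E)
    (hone : (1 : E) ∈ Submodule.span F (Set.range b))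
    (hmul : ∀ i j, b i * b j ∈ Submodule.span F (Set.range b))
    (hgen : IntermediateField.adjoin F (Set.range b) = ⊤) : Module.Finite F E ∧ Module.finrank F E ≤ e := by
  classical
  set M := Submodule.span F (Set.range b)
  have hm : ∀ x y, x ∈ M → y ∈ M → x * y ∈ M := fun x y hx hy => by
    have h : M * M ≤ M := by
      rw [Submodule.span_mul_span, Submodule.span_le]
      rintro _ ⟨_, ⟨i, rfl⟩, _, ⟨j, rfl⟩, rfl⟩
      exact hmul i j
    exact h (Submodule.mul_mem_mul hx hy)
  let S : Subalgebra F E := M.toSubalgebra hone hm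
  haveI hfin : Module.Finite F S := Module.Finite.span_of_finite F (Set.finite_range b)
  haveI : Algebra.IsAlgebraic F S := Algebra.IsAlgebraic.of_finite F S
  let I : IntermediateField F E := S.toIntermediateField fun x hx =>
    S.inv_mem_of_algebraic (x := ⟨x, hx⟩) (isAlgebraic_algHom_iff S.val Subtype.val_injective |>.2 (Algebra.IsAlgebraic.isAlgebraic (R := F) (⟨x, hx⟩ : S)))
  have htop : ∀ x : E, x ∈ M := fun x => by
    have h : IntermediateField.adjoin F (Set.range b) ≤ I :=
      IntermediateField.adjoin_le_iff.2 fun y hy => Submodule.subset_span hy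
    exact h (by rw [hgen]; trivial)
  have hM : M = ⊤ := Submodule.eq_top_iff'.2 htop
  refine ⟨Module.finite_def.2 (hM ▸ Submodule.fg_span (Set.finite_range b)), ?_⟩
  have h := finrank_range_le_card (R := F) b
  rw [Set.finrank, show Submodule.span F (Set.range b) = ⊤ from hM, finrank_top, Fintype.card_fin] at h
  exact h

variable (k K L K' : Type u) [Field k] [Field K] [Field L] [Field K'] [Algebra k K] [Algebra k L] [Algebra K K']
  [Algebra L K'] [Algebra k K'] [IsScalarTower k K K'] [IsScalarTower k L K'] [Algebra.IsSeparable k L]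

include k L in
theorem isSeparable_top (hgen : IntermediateField.adjoin K (Set.range (algebraMap L K')) = ⊤) :
    Algebra.IsSeparable K K' := by
  have h : Algebra.IsSeparable K (IntermediateField.adjoin K (Set.range (algebraMap L K'))) := by
    refine (IntermediateField.isSeparable_adjoin_iff_isSeparable _ _).2 ?_
    rintro _ ⟨x, rfl⟩
    exact (IsSeparable.map (f := IsScalarTower.toAlgHom k L K') (RingHom.injective _) (Algebra.IsSeparable.isSeparable k x)).tower_top K
  rw [hgen] at h
  haveI := h
  exact AlgEquiv.Algebra.isSeparable (IntermediateField.topEquiv (F := K) (E := K'))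

theorem exists_up (hgen : IntermediateField.adjoin K (Set.range (algebraMap L K')) = ⊤) {e : ℕ}
    (D : CovDiag k K e) (hD : Algebra.IsSeparable K D.KC) :
    ∃ e' ≤ e, ∃ D' : CovDiag L K' e', Algebra.IsSeparable K' D'.KC := by
  classical
  haveI := hD
  haveI : Algebra.IsSeparable K K' := isSeparable_top k K L K' hgen
  let Ω := AlgebraicClosure D.KC
  let ι : K' →ₐ[K] Ω := IsAlgClosed.lift
  letI : Algebra K' Ω := ι.toRingHom.toAlgebra
  haveI : IsScalarTower K K' Ω := IsScalarTower.of_algebraMap_eq fun x => (ι.commutes x).symm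
  let E : IntermediateField K' Ω := IntermediateField.adjoin K' (Set.range (algebraMap D.KC Ω))
  have hint : ∀ y ∈ Set.range (algebraMap D.KC Ω), IsSeparable K' y := by
    rintro _ ⟨y, rfl⟩
    exact (IsSeparable.map (f := IsScalarTower.toAlgHom K D.KC Ω) (RingHom.injective _) (Algebra.IsSeparable.isSeparable K y)).tower_top K'
  haveI hsepE : Algebra.IsSeparable K' E := (IntermediateField.isSeparable_adjoin_iff_isSeparable _ _).2 hint
  have hjm : ∀ y, algebraMap D.KC Ω y ∈ E := fun y => IntermediateField.subset_adjoin _ _ ⟨y, rfl⟩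
  let j : D.KC →+* E := RingHom.codRestrict (algebraMap D.KC Ω) E.toSubalgebra hjm
  have hjK : ∀ x : K, j (algebraMap K D.KC x) = algebraMap K' E (algebraMap K K' x) := fun x => Subtype.ext <| by
    show algebraMap D.KC Ω _ = algebraMap K' Ω _
    rw [← IsScalarTower.algebraMap_apply, ← IsScalarTower.algebraMap_apply]
  haveI : Module.Finite K' E := by
    let bK := Module.finBasis K D.KC
    have hE : E = IntermediateField.adjoin K' (Set.range fun i => algebraMap D.KC Ω (bK i)) := by
      refine le_antisymm (IntermediateField.adjoin_le_iff.2 ?_) (IntermediateField.adjoin.mono _ _ _ ?_)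
      · rintro _ ⟨y, rfl⟩
        rw [← bK.sum_repr y, map_sum]
        refine sum_mem fun i _ => ?_
        rw [Algebra.smul_def, map_mul, ← IsScalarTower.algebraMap_apply K D.KC Ω, IsScalarTower.algebraMap_apply K K' Ω]
        exact mul_mem (IntermediateField.algebraMap_mem _ _) (IntermediateField.subset_adjoin _ _ ⟨i, rfl⟩)
      · rintro _ ⟨i, rfl⟩; exact ⟨_, rfl⟩
    rw [hE]
    refine IntermediateField.finiteDimensional_adjoin ?_
    rintro _ ⟨i, rfl⟩
    exact (hint _ ⟨_, rfl⟩).isIntegral
  let ℓ : L →+* E := (algebraMap K' E).comp (algebraMap L K')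
  letI aBE : Algebra D.KB E := (j.comp (algebraMap D.KB D.KC)).toAlgebra
  let B' : IntermediateField D.KB E := IntermediateField.adjoin D.KB (Set.range ℓ)
  have hkk : ∀ x : k, ℓ (algebraMap k L x) = algebraMap D.KB E (algebraMap k D.KB x) := fun x => by
    show algebraMap K' E (algebraMap L K' (algebraMap k L x)) = j (algebraMap D.KB D.KC (algebraMap k D.KB x))
    rw [← IsScalarTower.algebraMap_apply k L K', ← IsScalarTower.algebraMap_apply k D.KB D.KC,
      IsScalarTower.algebraMap_apply k K D.KC, hjK, ← IsScalarTower.algebraMap_apply k K K']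
  haveI : Algebra.IsAlgebraic D.KB B' := by
    refine IntermediateField.isAlgebraic_adjoin (K := D.KB) ?_
    rintro _ ⟨x, rfl⟩
    obtain ⟨p, hp, hp0⟩ := (Algebra.IsSeparable.isSeparable k x).isIntegral
    refine ⟨p.map (algebraMap k D.KB), hp.map _, ?_⟩
    rw [Polynomial.eval₂_map, ← show ℓ.comp (algebraMap k L) = (algebraMap D.KB E).comp (algebraMap k D.KB) from
      RingHom.ext hkk, ← Polynomial.hom_eval₂, hp0, map_zero]
  have hℓB : ∀ x, ℓ x ∈ B' := fun x => IntermediateField.subset_adjoin _ _ ⟨x, rfl⟩
  letI aB : Algebra L B' := (RingHom.codRestrict ℓ B'.toSubalgebra hℓB).toAlgebra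
  letI aLE : Algebra L E := ℓ.toAlgebra
  haveI : IsScalarTower L B' E := IsScalarTower.of_algebraMap_eq fun _ => rfl
  haveI : IsScalarTower L K' E := IsScalarTower.of_algebraMap_eq fun _ => rfl
  let jA : D.KC →ₐ[D.KB] E := { j with commutes' := fun _ => rfl }
  have htr : Transcendental D.KB (jA D.t) := fun h =>
    D.transc ((isAlgebraic_algHom_iff jA jA.injective).1 h)
  have htr' : Transcendental B' (jA D.t) := htr.extendScalars B'
  set F' := IntermediateField.adjoin B' ({jA D.t} : Set E) with hF'
  have hjF : ∀ c : IntermediateField.adjoin D.KB ({D.t} : Set D.KC), jA c ∈ F' := fun c => by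
    have h : (IntermediateField.adjoin D.KB ({D.t} : Set D.KC)).map jA ≤ F'.restrictScalars D.KB := by
      rw [IntermediateField.adjoin_map, IntermediateField.adjoin_le_iff, Set.image_singleton, Set.singleton_subset_iff]
      exact IntermediateField.mem_adjoin_simple_self B' (jA D.t)
    exact h ⟨c, c.2, rfl⟩
  let b := Module.finBasisOfFinrankEq _ D.KC D.finrank_eq
  have hjspan : ∀ y, jA y ∈ Submodule.span F' (Set.range fun i => jA (b i)) := fun y => by
    rw [← b.sum_repr y, map_sum]
    refine Submodule.sum_mem _ fun i _ => ?_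
    rw [Algebra.smul_def, map_mul]
    exact Submodule.smul_mem _ (⟨_, hjF (b.repr y i)⟩ : F') (Submodule.subset_span ⟨i, rfl⟩)
  obtain ⟨hfin, hle⟩ := finite_of_span (F := F') (E := E) (fun i => jA (b i))
    (by simpa using hjspan 1) (fun i j => by simpa using hjspan (b i * b j)) (by
      set S := IntermediateField.adjoin F' (Set.range fun i => jA (b i)) with hS
      have hjS : ∀ y, jA y ∈ S := fun y => by
        have h : Submodule.span F' (Set.range fun i => jA (b i)) ≤ S.toSubalgebra.toSubmodule :=
          Submodule.span_le.2 fun z hz => IntermediateField.subset_adjoin _ _ hz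
        exact h (hjspan y)
      have hLS : ∀ x, ℓ x ∈ S := fun x =>
        S.algebraMap_mem (⟨_, F'.algebraMap_mem (⟨_, hℓB x⟩ : B')⟩ : F')
      have hK'S : ∀ z : K', algebraMap K' E z ∈ S := fun z => by
        have hz : z ∈ IntermediateField.adjoin K (Set.range (algebraMap L K')) := by rw [hgen]; trivial
        induction hz using IntermediateField.adjoin_induction with
        | mem z hz => obtain ⟨x, rfl⟩ := hz; exact hLS x
        | algebraMap x => rw [← hjK]; exact hjS _
        | add a b _ _ ha hb => rw [map_add]; exact add_mem ha hb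
        | inv a _ ha => rw [map_inv₀]; exact inv_mem ha
        | mul a b _ _ ha hb => rw [map_mul]; exact mul_mem ha hb
      rw [eq_top_iff]
      rintro ⟨z, hz⟩ -
      induction hz using IntermediateField.adjoin_induction with
      | mem z hz => obtain ⟨y, rfl⟩ := hz; exact hjS y
      | algebraMap x => exact hK'S x
      | add a b _ _ ha hb => exact add_mem ha hb
      | inv a _ ha => exact inv_mem ha
      | mul a b _ _ ha hb => exact mul_mem ha hb)
  haveI := hfin
  exact ⟨_, hle, { KC := E, KB := B', t := jA D.t, transc := htr', finrank_eq := rfl }, hsepE⟩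

theorem exists_down (hfg : (⊤ : IntermediateField k K).FG)
    (hgen : IntermediateField.adjoin K (Set.range (algebraMap L K')) = ⊤) {e : ℕ}
    (D : CovDiag L K' e) (hD : Algebra.IsSeparable K' D.KC) :
    ∃ e' ≤ e, ∃ D' : CovDiag k K e', Algebra.IsSeparable K D'.KC := by
  classical
  haveI := hD
  haveI : Algebra.IsSeparable K K' := isSeparable_top k K L K' hgen
  letI : Algebra K D.KC := ((algebraMap K' D.KC).comp (algebraMap K K')).toAlgebra
  haveI : IsScalarTower K K' D.KC := IsScalarTower.of_algebraMap_eq fun _ => rfl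
  haveI : Algebra.IsSeparable K D.KC := Algebra.IsSeparable.trans K K' D.KC
  letI : Algebra k D.KC := ((algebraMap K D.KC).comp (algebraMap k K)).toAlgebra
  haveI : IsScalarTower k K D.KC := IsScalarTower.of_algebraMap_eq fun _ => rfl
  letI : Algebra k D.KB := ((algebraMap L D.KB).comp (algebraMap k L)).toAlgebra
  haveI : IsScalarTower k D.KB D.KC := IsScalarTower.of_algebraMap_eq fun x => by
    show algebraMap K' D.KC (algebraMap K K' (algebraMap k K x)) =
      algebraMap D.KB D.KC (algebraMap L D.KB (algebraMap k L x))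
    rw [← IsScalarTower.algebraMap_apply k K K', ← IsScalarTower.algebraMap_apply L D.KB D.KC,
      IsScalarTower.algebraMap_apply k L K', ← IsScalarTower.algebraMap_apply L K' D.KC]
  obtain ⟨gK, hgK⟩ := hfg
  set F0 := IntermediateField.adjoin D.KB ({D.t} : Set D.KC) with hF0
  let b := Module.finBasisOfFinrankEq _ D.KC D.finrank_eq
  let P : Set D.KC := Set.range (algebraMap D.KB D.KC) ∪ {D.t}
  have hF0P : ∀ c : F0, (c : D.KC) ∈ IntermediateField.adjoin k P := fun c => by
    obtain ⟨c, hc⟩ := c
    induction hc using IntermediateField.adjoin_induction with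
    | mem z hz => exact IntermediateField.subset_adjoin _ _ (Or.inr hz)
    | algebraMap x => exact IntermediateField.subset_adjoin _ _ (Or.inl ⟨x, rfl⟩)
    | add a b _ _ ha hb => exact add_mem ha hb
    | inv a _ ha => exact inv_mem ha
    | mul a b _ _ ha hb => exact mul_mem ha hb
  choose T hTP hTmem using fun c : F0 => IntermediateField.exists_finset_of_mem_adjoin (hF0P c)
  let idx : (Fin e × Fin e) ⊕ (↥gK ⊕ Unit) → D.KC :=
    Sum.elim (fun p => b p.1 * b p.2) (Sum.elim (fun g => algebraMap K D.KC g.1) fun _ => 1)
  let G : Finset D.KC := ((Finset.univ : Finset ((Fin e × Fin e) ⊕ (↥gK ⊕ Unit))).biUnion fun s =>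
    (Finset.univ : Finset (Fin e)).biUnion fun l => T (b.repr (idx s) l)).filter fun y => y ∈ Set.range (algebraMap D.KB D.KC)
  let T0 : IntermediateField k D.KC := IntermediateField.adjoin k ((G : Set D.KC) ∪ {D.t})
  have hcoef : ∀ s l, (b.repr (idx s) l : D.KC) ∈ T0 := fun s l => by
    refine IntermediateField.adjoin.mono _ _ _ ?_ (hTmem (b.repr (idx s) l))
    intro y hy
    rcases hTP _ hy with h | h
    · exact Or.inl (Finset.mem_filter.2 ⟨Finset.mem_biUnion.2 ⟨s, Finset.mem_univ _,
        Finset.mem_biUnion.2 ⟨l, Finset.mem_univ _, hy⟩⟩, h⟩)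
    · exact Or.inr h
  let B0 : IntermediateField k D.KC := IntermediateField.adjoin k (G : Set D.KC)
  have hB0 : ∀ y ∈ B0, y ∈ Set.range (algebraMap D.KB D.KC) := fun y hy => by
    have h : B0 ≤ (IsScalarTower.toAlgHom k D.KB D.KC).fieldRange :=
      IntermediateField.adjoin_le_iff.2 fun y hy => by
        obtain ⟨x, hx⟩ := (Finset.mem_filter.1 hy).2
        exact ⟨x, hx⟩
    exact h hy
  let E : IntermediateField B0 D.KC := IntermediateField.adjoin B0 ({D.t} ∪ Set.range b)
  have htE : D.t ∈ E := IntermediateField.subset_adjoin _ _ (Or.inl rfl)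
  have hbE : ∀ i, b i ∈ E := fun i => IntermediateField.subset_adjoin _ _ (Or.inr ⟨i, rfl⟩)
  let t0 : E := ⟨D.t, htE⟩
  let b0 : Fin e → E := fun i => ⟨b i, hbE i⟩
  let F00 : IntermediateField B0 E := IntermediateField.adjoin B0 ({t0} : Set E)
  have hW : T0 ≤ ((F00.map E.val).restrictScalars k) := by
    refine IntermediateField.adjoin_le_iff.2 ?_
    rintro y (hy | hy)
    · exact (F00.map E.val).algebraMap_mem (⟨y, IntermediateField.subset_adjoin _ _ hy⟩ : B0)
    · exact ⟨t0, IntermediateField.mem_adjoin_simple_self B0 t0, (Set.mem_singleton_iff.1 hy).symm⟩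
  have hspan : ∀ s, ∃ z ∈ Submodule.span F00 (Set.range b0), (z : D.KC) = idx s := fun s => by
    choose c hc hcv using fun l => hW (hcoef s l)
    refine ⟨∑ l, (⟨c l, hc l⟩ : F00) • b0 l, Submodule.sum_mem _ fun l _ =>
      Submodule.smul_mem _ _ (Submodule.subset_span ⟨l, rfl⟩), ?_⟩
    conv_rhs => rw [← b.sum_repr (idx s)]
    rw [AddSubmonoidClass.coe_finsetSum]
    refine Finset.sum_congr rfl fun l _ => ?_
    show ((c l * b0 l : E) : D.KC) = (b.repr (idx s) l : D.KC) * b l
    rw [MulMemClass.coe_mul, ← hcv l]
    rfl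
  obtain ⟨hfin, hle⟩ := finite_of_span (F := F00) (E := E) b0
    (by obtain ⟨z, hz, hzv⟩ := hspan (Sum.inr (Sum.inr ())); rwa [show z = 1 from Subtype.ext hzv] at hz)
    (fun i j => by obtain ⟨z, hz, hzv⟩ := hspan (Sum.inl (i, j)); rwa [show z = b0 i * b0 j from Subtype.ext hzv] at hz)
    (by
      rw [eq_top_iff]
      rintro ⟨z, hz⟩ -
      induction hz using IntermediateField.adjoin_induction with
      | mem z hz =>
        rcases hz with hz | ⟨i, rfl⟩
        · obtain rfl := Set.mem_singleton_iff.1 hz
          exact (IntermediateField.adjoin F00 (Set.range b0)).algebraMap_mem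
            (⟨t0, IntermediateField.mem_adjoin_simple_self B0 t0⟩ : F00)
        · exact IntermediateField.subset_adjoin _ _ ⟨i, rfl⟩
      | algebraMap x =>
        exact (IntermediateField.adjoin F00 (Set.range b0)).algebraMap_mem (⟨_, F00.algebraMap_mem x⟩ : F00)
      | add a b _ _ ha hb => exact add_mem ha hb
      | inv a _ ha => exact inv_mem ha
      | mul a b _ _ ha hb => exact mul_mem ha hb)
  have hKE : ∀ x : K, algebraMap K D.KC x ∈ E := fun x => by
    have hx : x ∈ IntermediateField.adjoin k (gK : Set K) := by rw [hgK]; trivial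
    induction hx using IntermediateField.adjoin_induction with
    | mem y hy =>
      obtain ⟨z, -, hzv⟩ := hspan (Sum.inr (Sum.inl ⟨y, hy⟩))
      rw [show algebraMap K D.KC y = (z : D.KC) from hzv.symm]
      exact z.2
    | algebraMap y =>
      rw [← IsScalarTower.algebraMap_apply]
      exact E.algebraMap_mem (⟨_, B0.algebraMap_mem y⟩ : B0)
    | add a b _ _ ha hb => rw [map_add]; exact add_mem ha hb
    | inv a _ ha => rw [map_inv₀]; exact inv_mem ha
    | mul a b _ _ ha hb => rw [map_mul]; exact mul_mem ha hb
  letI aKE : Algebra K E := (RingHom.codRestrict (algebraMap K D.KC) E.toSubalgebra hKE).toAlgebra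
  haveI : IsScalarTower K E D.KC := IsScalarTower.of_algebraMap_eq fun _ => rfl
  haveI : IsScalarTower k K E := IsScalarTower.of_algebraMap_eq fun x => Subtype.ext
    ((IsScalarTower.algebraMap_apply k K D.KC x).trans rfl)
  let GE : Set D.KC := (G : Set D.KC) ∪ ({D.t} ∪ Set.range b)
  let EK : IntermediateField K D.KC := IntermediateField.adjoin K GE
  haveI : Finite GE := ((G.finite_toSet.union ((Set.finite_singleton _).union (Set.finite_range _)))).to_subtype
  haveI : Module.Finite K EK :=
    IntermediateField.finiteDimensional_adjoin fun y _ => (Algebra.IsSeparable.isSeparable K y).isIntegral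
  have hEEK : ∀ y ∈ E, y ∈ EK := fun y hy => by
    induction hy using IntermediateField.adjoin_induction with
    | mem z hz => exact IntermediateField.subset_adjoin _ _ (Or.inr hz)
    | algebraMap x =>
      have h : B0 ≤ EK.restrictScalars k := by
        refine IntermediateField.adjoin_le_iff.2 fun z hz => ?_
        have hz' : z ∈ GE := Or.inl hz
        have hz2 : z ∈ EK := IntermediateField.subset_adjoin K GE hz'
        exact hz2
      exact (IntermediateField.mem_restrictScalars k).1 (h x.2)
    | add a b _ _ ha hb => exact add_mem ha hb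
    | inv a _ ha => exact inv_mem ha
    | mul a b _ _ ha hb => exact mul_mem ha hb
  haveI : Module.Finite K E := Module.Finite.of_injective
    ({ toFun := fun z => (⟨z.1, hEEK z.1 z.2⟩ : EK)
       map_add' := fun _ _ => rfl
       map_smul' := fun r z => Subtype.ext (by
         show ((r • z : E) : D.KC) = r • (z : D.KC)
         rw [Algebra.smul_def, Algebra.smul_def]; rfl) } : E →ₗ[K] EK)
    (fun a b h => Subtype.ext (by simpa using congrArg Subtype.val h))
  have htr : Transcendental B0 t0 := by
    intro halg
    have h1 : IsAlgebraic B0 D.t := (isAlgebraic_algHom_iff E.val Subtype.val_injective).2 halg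
    obtain ⟨p, hp0, hp⟩ := h1
    choose g hg using fun y : B0 => hB0 y.1 y.2
    let gh : B0 →+* D.KB :=
      { toFun := g
        map_one' := (algebraMap D.KB D.KC).injective (by rw [hg, map_one]; rfl)
        map_mul' := fun x y => (algebraMap D.KB D.KC).injective (by rw [hg, map_mul, hg, hg]; rfl)
        map_zero' := (algebraMap D.KB D.KC).injective (by rw [hg, map_zero]; rfl)
        map_add' := fun x y => (algebraMap D.KB D.KC).injective (by rw [hg, map_add, hg, hg]; rfl) }
    refine D.transc ⟨p.map gh, (Polynomial.map_ne_zero_iff gh.injective).2 hp0, ?_⟩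
    rw [Polynomial.aeval_def, Polynomial.eval₂_map,
      show (algebraMap D.KB D.KC).comp gh = algebraMap B0 D.KC from RingHom.ext fun y => hg y, ← Polynomial.aeval_def, hp]
  haveI := hfin
  haveI : Algebra.IsSeparable K E := Algebra.IsSeparable.of_algHom K D.KC (IsScalarTower.toAlgHom K E D.KC)
  exact ⟨_, hle, { KC := E, KB := B0, t := t0, transc := htr, finrank_eq := rfl }, inferInstance⟩

end Groth.Agent.Cvg52
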